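import Cfsg.Agent.Spor.C3D.D0

set_option autoImplicit false
set_option maxRecDepth 100000000
set_option Elab.async false

namespace Cfsg.Agent.Spor.C3D

theorem sq : PA.sq A = true := by decide +kernel

theorem T6ok : PA.gensOk A T6 6 = true := by decide +kernel

theorem TTok : PA.gensOk A TT 5 = true := by decide +kernel

theorem cT6 : lall (fun w => A.isW T6 w A.one) C3SM.CJ = true := by decide +kernel

theorem cz6 : band (A.isW T6 C3SM.zw cz) (band (A.neq cz A.one) (A.ncm (nth A.one T6 0) (nth A.one T6 2))) = true := by decide +kernel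

theorem cW5 : allN (fun j => A.isW T6 (nth [] W5 j) (nth A.one TT (2 * j))) 5 = true := by decide +kernel

theorem cW6 : allN (fun j => A.isW TT (nth [] W6 j) (nth A.one T6 (2 * j))) 6 = true := by decide +kernel

theorem Dinc : SD.incr A = true := by decide +kernel

theorem Yinc : SY.incr A = true := by decide +kernel

theorem Dtree : SD.tree SDI A.one (A.rmul TD) = true := by decide +kernel

theorem Ytree : SY.tree SYI cy (A.cnj TT) = true := by decide +kernel

theorem Acov : SA.all (fun x => allN (fun j => SA.mem (A.cnj TT x (2 * j + 1))) 5) = true := by decide +kernel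

theorem cinv : SD.all (A.invo LC) = true := by decide +kernel

theorem crep : lall SD.mem reps = true := by decide +kernel

theorem lev1 : A.lev1 SD LC LK reps = true := by decide +kernel

theorem cts : band (A.tests (PA.tab3 d1 d2 A.one) PL ts2) (A.tests TD PL ts3) = true := by decide +kernel

theorem l3_0 : A.lev3 SD LC TH3 ts3 e0 = true := by decide +kernel

theorem l3_1 : A.lev3 SD LC TH3 ts3 e1 = true := by decide +kernel

theorem l3_2 : A.lev3 SD LC TH3 ts3 e2 = true := by decide +kernel

theorem l3_3 : A.lev3 SD LC TH3 ts3 e3 = true := by decide +kernel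

theorem l3_4 : A.lev3 SD LC TH3 ts3 e4 = true := by decide +kernel

theorem l3_5 : A.lev3 SD LC TH3 ts3 e5 = true := by decide +kernel

theorem l3_6 : A.lev3 SD LC TH3 ts3 e6 = true := by decide +kernel

theorem l3_7 : A.lev3 SD LC TH3 ts3 e7 = true := by decide +kernel

theorem l3_8 : A.lev3 SD LC TH3 ts3 e8 = true := by decide +kernel

theorem l3_9 : A.lev3 SD LC TH3 ts3 e9 = true := by decide +kernel

theorem l3_10 : A.lev3 SD LC TH3 ts3 e10 = true := by decide +kernel

theorem l3_11 : A.lev3 SD LC TH3 ts3 e11 = true := by decide +kernel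

theorem l3_12 : A.lev3 SD LC TH3 ts3 e12 = true := by decide +kernel

theorem l3_13 : A.lev3 SD LC TH3 ts3 e13 = true := by decide +kernel

theorem l3_14 : A.lev3 SD LC TH3 ts3 e14 = true := by decide +kernel

theorem l3_15 : A.lev3 SD LC TH3 ts3 e15 = true := by decide +kernel

theorem l3_16 : A.lev3 SD LC TH3 ts3 e16 = true := by decide +kernel

end Cfsg.Agent.Spor.C3D
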