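import Cfsg.Agent.Spor.C3D.D0

set_option autoImplicit false
set_option maxRecDepth 100000000
set_option Elab.async false

namespace Cfsg.Agent.Spor.C3D

theorem l3_17 : A.lev3 SD LC TH3 ts3 e17 = true := by decide +kernel

theorem l3_18 : A.lev3 SD LC TH3 ts3 e18 = true := by decide +kernel

theorem l3_19 : A.lev3 SD LC TH3 ts3 e19 = true := by decide +kernel

theorem l3_20 : A.lev3 SD LC TH3 ts3 e20 = true := by decide +kernel

theorem l3_21 : A.lev3 SD LC TH3 ts3 e21 = true := by decide +kernel

theorem l3_22 : A.lev3 SD LC TH3 ts3 e22 = true := by decide +kernel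

theorem l3_23 : A.lev3 SD LC TH3 ts3 e23 = true := by decide +kernel

theorem l3_24 : A.lev3 SD LC TH3 ts3 e24 = true := by decide +kernel

theorem l3_25 : A.lev3 SD LC TH3 ts3 e25 = true := by decide +kernel

theorem l3_26 : A.lev3 SD LC TH3 ts3 e26 = true := by decide +kernel

theorem l3_27 : A.lev3 SD LC TH3 ts3 e27 = true := by decide +kernel

theorem l3_28 : A.lev3 SD LC TH3 ts3 e28 = true := by decide +kernel

theorem l3_29 : A.lev3 SD LC TH3 ts3 e29 = true := by decide +kernel

theorem l3_30 : A.lev3 SD LC TH3 ts3 e30 = true := by decide +kernel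

theorem l3_31 : A.lev3 SD LC TH3 ts3 e31 = true := by decide +kernel

theorem l3_32 : A.lev3 SD LC TH3 ts3 e32 = true := by decide +kernel

theorem l3_33 : A.lev3 SD LC TH3 ts3 e33 = true := by decide +kernel

theorem l3_34 : A.lev3 SD LC TH3 ts3 e34 = true := by decide +kernel

theorem l3_35 : A.lev3 SD LC TH3 ts3 e35 = true := by decide +kernel

theorem l3_36 : A.lev3 SD LC TH3 ts3 e36 = true := by decide +kernel

theorem l3_37 : A.lev3 SD LC TH3 ts3 e37 = true := by decide +kernel

theorem l3_38 : A.lev3 SD LC TH3 ts3 e38 = true := by decide +kernel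

theorem l3_39 : A.lev3 SD LC TH3 ts3 e39 = true := by decide +kernel

theorem l3_40 : A.lev3 SD LC TH3 ts3 e40 = true := by decide +kernel

theorem l3_41 : A.lev3 SD LC TH3 ts3 e41 = true := by decide +kernel

theorem l3_42 : A.lev3 SD LC TH3 ts3 e42 = true := by decide +kernel

theorem l3_43 : A.lev3 SD LC TH3 ts3 e43 = true := by decide +kernel

theorem l3_44 : A.lev3 SD LC TH3 ts3 e44 = true := by decide +kernel

theorem l3_45 : A.lev3 SD LC TH3 ts3 e45 = true := by decide +kernel

theorem l3_46 : A.lev3 SD LC TH3 ts3 e46 = true := by decide +kernel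

theorem lev2 : lall (A.lev2 LC ts2 L2) reps = true := by decide +kernel

theorem bad1 : A.badc SA TD (PA.tab3 x11 x12 x13) (A.evw TT [4, 2, 4, 6] A.one) (A.evw TT [4, 2, 6, 8, 2, 8] A.one) cz (nat_lit 0x41080081040040040042040081082002042000082002081000082000041040081041000040080081000041081000000) (nat_lit 0x41081041082082000001081081080082081082042002081081041080081002081040000002081040042002081042082) [0, 2, 4] [4, 0, 2, 4, 2, 4, 2, 0, 4, 0] [0, 2, 0, 4, 0, 2, 0, 4, 0, 2, 0, 4] = true := by decide +kernel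

theorem bad2 : A.badc SA TD (PA.tab3 x21 x22 x23) (A.evw TT [4, 2, 6] A.one) (A.evw TT [4, 2, 8, 6, 8] A.one) cz (nat_lit 0x81002080000042040001080082040002080002082082082002082082001040081040000042080001000042082041000) (nat_lit 0x80001041000082080002080082080002040081041040042081041040081001042081000002040000000002042040000) [0, 2, 4, 0, 2, 4, 2, 4, 2, 4, 2] [0, 2, 4, 2, 4, 0, 4, 0, 4, 0, 4, 2, 4, 0] [4, 0, 2, 0, 4, 0, 2, 0, 4, 0, 2, 0] = true := by decide +kernel

theorem bad3 : A.badc SA TD (PA.tab3 x31 x32 x33) (A.evw TT [4] A.one) (A.evw TT [6, 4] A.one) cz (nat_lit 0x1041000000000041040080002000001081000081000001000081080001000081040000000081000081081002000) (nat_lit 0x40001041000081000001081081000082081042080002002000041040002001001040002040001041042000001041082) [0, 4, 0, 2, 4, 0, 4, 0, 4, 0, 4] [0, 4, 0, 4, 2, 4, 0, 4, 2, 4, 0, 4, 2, 0] [2, 4, 0, 2, 0, 4, 0, 2, 0, 4, 2, 0] = true := by decide +kernel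

theorem vc : SD.all (A.cenT vC vW) = true := by decide +kernel

end Cfsg.Agent.Spor.C3D
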