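import Cfsg.Agent.Spor.C3D.D0

set_option autoImplicit false
set_option maxRecDepth 100000000
set_option Elab.async false

namespace Cfsg.Agent.Spor.C3D

theorem va : A.acts SD TD TH A_one A_one 2 vQ = true := by decide +kernel

theorem ve : A.excl TD TH A_one A_one vW [A_one, czy] [[2, 4, 2, 4, 2, 4, 2, 4, 2, 4, 2, 4], [0, 2, 4, 2, 4, 2, 0, 4, 0, 4, 0, 2, 4, 2, 4, 2, 0, 4, 0, 4]] = true := by decide +kernel

theorem ua : A.acts SD TD TH cc A_one 3 uQ = true := by decide +kernel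

theorem ue : A.excl TD TH cc A_one uW [A_one] [[0, 2, 4, 2, 4, 2, 0, 4, 0, 4, 0, 2, 4, 2, 4, 2, 0, 4, 0, 4], [2, 4, 2, 4, 2, 4, 2, 4, 2, 4, 2, 4], [0, 4, 0, 4, 0, 4, 0, 4, 0, 4, 0, 4]] = true := by decide +kernel

theorem wc : SD.all (A.cenT wC wW) = true := by decide +kernel

theorem wa : A.acts SD TD TH cb c0 3 wQ = true := by decide +kernel

theorem we : A.excl TD TH cb c0 wW [A_one, w0] [[0, 4, 2, 0, 4, 0, 4, 0, 2, 4, 0], [4, 0, 2, 0, 4, 0, 2, 0, 4], [0, 4, 0, 4, 2, 4, 0, 4, 2, 4, 0, 4, 0], [0, 4, 2, 4, 0, 4, 0, 4, 0, 4, 2, 4, 0], [2, 4, 0, 4, 2, 4, 2, 4, 2, 4, 0, 4, 2], [2, 4, 2, 4, 0, 4, 2, 4, 0, 4, 2, 4, 2]] = true := by decide +kernel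

theorem cwd : band (A.isW TT [2] d1) (band (A.isW TT [8, 2, 8] d2) (A.isW TT [6, 8, 2, 8, 6] d3)) = true := by decide +kernel

theorem cwt : band (Nat.beq (A.evw TT [8, 2, 6, 8, 2, 8, 6, 2, 8, 2, 8, 6, 2, 8, 6] t1) A.one) (band (Nat.beq (A.evw TT [8, 6, 2, 8, 6, 2, 8, 6, 2, 8, 2, 8] t2) A.one) (Nat.beq (A.evw TT [6, 2, 8, 2, 8, 2, 6, 8, 2, 8, 2, 6, 8, 2] t3) A.one)) = true := by decide +kernel

theorem cmem : lall SD.mem [cz, cy, czy, t1, t2, t3, c0, w0, d1, d2, d3] = true := by decide +kernel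

theorem csq : lall (fun x => Nat.beq (A.mul x x) A.one) [cz, cy, d1, d2, d3] = true := by decide +kernel

theorem cdy : lall (fun x => band (A.cmm x cy) (A.cmm x cz)) [d1, d2, d3] = true := by decide +kernel

theorem cvv : band (A.neq cy A.one) (band (A.neq cy cz) (band (Nat.beq (A.mul cz cy) czy) (band (Nat.beq (A.mul cy cz) czy) (Nat.beq (A.mul cy (A.mul czy cz)) A.one)))) = true := by decide +kernel

theorem cbc : band (Nat.beq (nth A.one TT 4) cb) (Nat.beq (nth A.one TT 6) cc) = true := by decide +kernel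

theorem ctl : band (Nat.beq (A.evw TT [2, 4, 8, 4, 8, 2, 4, 8, 4, 8, 2] (A.mul c0 A.one)) A.one) (Nat.beq (A.evw TT [8, 2, 4, 2, 8, 4, 2, 4, 8, 2, 8, 4, 8, 2, 8, 2, 8] (A.mul c0 w0)) A.one) = true := by decide +kernel

theorem cRK : lall (fun w => band (lall (Nat.ble 2) w) (A.isW TT w A.one)) RK = true := by decide +kernel

end Cfsg.Agent.Spor.C3D
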