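import Cfsg.Agent.Spor.Cert
import Cfsg.Agent.Spor.C3D.C0
import Cfsg.Agent.Spor.C3D.C1
import Cfsg.Agent.Spor.C3D.C2

set_option autoImplicit false
set_option maxRecDepth 100000000
set_option Elab.async false

namespace Cfsg.Agent.Spor.C3D

theorem lev3 : AllP (fun e => A.lev3 SD LC TH3 ts3 e = true) L2 :=
  show AllP (fun e => A.lev3 SD LC TH3 ts3 e = true) [e0, e1, e2, e3, e4, e5, e6, e7, e8, e9, e10, e11, e12, e13, e14, e15, e16, e17, e18, e19, e20, e21, e22, e23, e24, e25, e26, e27, e28, e29, e30, e31, e32, e33, e34, e35, e36, e37, e38, e39, e40, e41, e42, e43, e44, e45, e46] from AllP.cons l3_0 (AllP.cons l3_1 (AllP.cons l3_2 (AllP.cons l3_3 (AllP.cons l3_4 (AllP.cons l3_5 (AllP.cons l3_6 (AllP.cons l3_7 (AllP.cons l3_8 (AllP.cons l3_9 (AllP.cons l3_10 (AllP.cons l3_11 (AllP.cons l3_12 (AllP.cons l3_13 (AllP.cons l3_14 (AllP.cons l3_15 (AllP.cons l3_16 (AllP.cons l3_17 (AllP.cons l3_18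 (AllP.cons l3_19 (AllP.cons l3_20 (AllP.cons l3_21 (AllP.cons l3_22 (AllP.cons l3_23 (AllP.cons l3_24 (AllP.cons l3_25 (AllP.cons l3_26 (AllP.cons l3_27 (AllP.cons l3_28 (AllP.cons l3_29 (AllP.cons l3_30 (AllP.cons l3_31 (AllP.cons l3_32 (AllP.cons l3_33 (AllP.cons l3_34 (AllP.cons l3_35 (AllP.cons l3_36 (AllP.cons l3_37 (AllP.cons l3_38 (AllP.cons l3_39 (AllP.cons l3_40 (AllP.cons l3_41 (AllP.cons l3_42 (AllP.cons l3_43 (AllP.cons l3_44 (AllP.cons l3_45 (AllP.cons l3_46 (AllP.nil)))))))))))))))))))))))))))))))))))))))))))))))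


end Cfsg.Agent.Spor.C3D
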